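import Mathlib.AlgebraicGeometry.AlgClosed.Basic
import Groth.Agent.UPLib.ProjSpace

/-!
# Coordinates at the closed points of projective space
-/

set_option autoImplicit false
set_option backward.isDefEq.respectTransparency.types false

universe u

open AlgebraicGeometry CategoryTheory TopologicalSpace Opposite HomogeneousLocalization

namespace Groth.Agent.EmbLib24

variable {k : Type u} [CommRing k]

/-- Constants as functions on an open. -/
noncomputable def gl {X : Scheme.{u}} (q : X ⟶ Spec (CommRingCat.of k)) (W : X.Opens) : k →+* Γ(X, W) :=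
  (X.presheaf.map (homOfLE (le_top : W ≤ ⊤)).op).hom.comp (ProjUP.toGlobal q)

theorem res_gl {X : Scheme.{u}} (q : X ⟶ Spec (CommRingCat.of k)) {V W : X.Opens} (h : W ≤ V) (c : k) :
    X.presheaf.map (homOfLE h).op (gl q V c) = gl q W c :=
  (ConcreteCategory.congr_hom (X.presheaf.map_comp _ _) (ProjUP.toGlobal q c)).symm

theorem germ_gl {X : Scheme.{u}} (q : X ⟶ Spec (CommRingCat.of k)) {W : X.Opens} {x : X} (hx : x ∈ W) (c : k) :
    X.presheaf.germ W x hx (gl q W c) = X.presheaf.germ ⊤ x trivial (ProjUP.toGlobal q c) :=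
  TopCat.Presheaf.germ_res_apply X.presheaf _ x hx _

theorem appLE_gl {X Y : Scheme.{u}} {q : X ⟶ Spec (CommRingCat.of k)} {p : Y ⟶ Spec (CommRingCat.of k)}
    {f : X ⟶ Y} (hf : f ≫ p = q) {V : Y.Opens} {W : X.Opens} (e : W ≤ f ⁻¹ᵁ V) (c : k) :
    f.appLE V W e (gl p V c) = gl q W c := by
  subst hf
  show ((Y.presheaf.map (homOfLE (le_top : V ≤ ⊤)).op) ≫ f.appLE V W e).hom (ProjUP.toGlobal p c) = _
  rw [Scheme.Hom.map_appLE]
  simp only [gl, ProjUP.toGlobal, RingHom.comp_apply, Scheme.Hom.comp_appTop, CommRingCat.hom_comp]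
  rfl

theorem toSpecΓ_gl {X : Scheme.{u}} (q : X ⟶ Spec (CommRingCat.of k)) (W : X.Opens) :
    W.ι ≫ q = W.toSpecΓ ≫ Spec.map (CommRingCat.ofHom (gl q W)) := by
  conv_lhs => rw [← UPLib.eq_toSpecΓ_toGlobal q]
  rw [show CommRingCat.ofHom (gl q W) = CommRingCat.ofHom (ProjUP.toGlobal q) ≫
      X.presheaf.map (homOfLE (le_top : W ≤ ⊤)).op from rfl, Spec.map_comp, ← Category.assoc,
    ← Category.assoc, Scheme.Opens.toSpecΓ_SpecMap_presheaf_map_top]

/-- Closed points of a scheme of finite type over an algebraically closed field are rational. -/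
theorem exists_residue_eq {k : Type u} [Field k] [IsAlgClosed k] {X : Scheme.{u}}
    (q : X ⟶ Spec (CommRingCat.of k)) [LocallyOfFiniteType q] {x : X} (hx : IsClosed ({x} : Set X))
    (t : X.presheaf.stalk x) :
    ∃ c : k, t - X.presheaf.germ ⊤ x trivial (ProjUP.toGlobal q c) ∈ IsLocalRing.maximalIdeal (X.presheaf.stalk x) := by
  have h : (residueFieldIsoBase q x hx).inv =
      CommRingCat.ofHom (ProjUP.toGlobal q) ≫ X.presheaf.germ ⊤ x trivial ≫ X.residue x := by
    apply Spec.map_injective
    rw [SpecMap_residueFieldIsoBase_inv, Spec.map_comp, Spec.map_comp, Category.assoc]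
    conv_lhs => rw [← UPLib.eq_toSpecΓ_toGlobal q]
    rw [show X.fromSpecResidueField x = Spec.map (X.residue x) ≫ X.fromSpecStalk x from rfl,
      Category.assoc, Scheme.fromSpecStalk_toSpecΓ_assoc]
  obtain ⟨c, hc⟩ := (ConcreteCategory.bijective_of_isIso (residueFieldIsoBase q x hx).inv).2 (X.residue x t)
  refine ⟨c, (IsLocalRing.residue_eq_zero_iff _).1 ?_⟩
  show X.residue x _ = 0
  rw [map_sub, ← hc, h]
  exact sub_self _

section Proj

variable (n : ℕ) (R : Type u) [CommRing R] (j : Fin (n + 1))

local notation "Pn" => CohB1.ProjSpace n R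

/-- The chart `T_j ≠ 0`. -/
noncomputable abbrev chart : (CohB1.ProjSpace n R).Opens :=
  Proj.basicOpen (CohB1.polyGrading n R) (MvPolynomial.X j)

/-- The coordinate `T_i / T_j`. -/
noncomputable def coordFrac (i : Fin (n + 1)) : Away (CohB1.polyGrading n R) (MvPolynomial.X j) :=
  Away.mk _ (MvPolynomial.isHomogeneous_X R j) 1 (MvPolynomial.X i) (by simpa using MvPolynomial.isHomogeneous_X R i)

/-- The coordinate `T_i / T_j` as a function on the chart. -/
noncomputable def coordFun (i : Fin (n + 1)) : Γ(CohB1.ProjSpace n R, chart n R j) :=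
  (Proj.awayToSection (CohB1.polyGrading n R) (MvPolynomial.X j)).hom (coordFrac n R j i)

theorem isAffineOpen_chart : IsAffineOpen (chart n R j) :=
  Proj.isAffineOpen_basicOpen (CohB1.polyGrading n R) (MvPolynomial.X j) (MvPolynomial.isHomogeneous_X R j) one_pos

/-- The constants of the chart ring. -/
noncomputable def awayConst : R →+* Away (CohB1.polyGrading n R) (MvPolynomial.X j) :=
  (fromZeroRingHom (CohB1.polyGrading n R) _).comp (algebraMap R (CohB1.polyGrading n R 0))

theorem awayToSection_const (c : R) :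
    Proj.awayToSection (CohB1.polyGrading n R) (MvPolynomial.X j) (awayConst n R j c) =
      gl (CohB1.ProjSpace.toSpec n R) (chart n R j) c := by
  have h := UPLib.appLE_fromZero (𝒜 := CohB1.polyGrading n R) (MvPolynomial.isHomogeneous_X R j)
    (𝟙 (CohB1.ProjSpace n R)) (chart n R j) le_rfl
  have h1 := toSpecΓ_gl (CohB1.ProjSpace.toSpec n R) (chart n R j)
  have h2 : (chart n R j).ι ≫ CohB1.ProjSpace.toSpec n R = (chart n R j).toSpecΓ ≫
      Spec.map (CommRingCat.ofHom (algebraMap R (CohB1.polyGrading n R 0)) ≫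
        CommRingCat.ofHom (fromZeroRingHom (CohB1.polyGrading n R) _) ≫
          Proj.awayToSection _ _ ≫ (𝟙 (CohB1.ProjSpace n R) : _).appLE (chart n R j) (chart n R j) le_rfl) := by
    rw [Spec.map_comp]
    refine Eq.trans ?_ (Category.assoc _ _ _)
    refine Eq.trans ?_ (congrArg (· ≫ _) h)
    show _ ≫ (_ ≫ _) = (_ ≫ _ ≫ _) ≫ _
    erw [Category.id_comp]
    exact (Category.assoc _ _ _).symm
  have h3 := UPLib.toSpecΓ_map_injective (h2.symm.trans h1)
  have h4 : (𝟙 (CohB1.ProjSpace n R) : _).appLE (chart n R j) (chart n R j) le_rfl = 𝟙 _ := by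
    rw [Scheme.Hom.appLE, Scheme.Hom.id_app]
    exact (Category.id_comp _).trans ((CohB1.ProjSpace n R).presheaf.map_id _)
  rw [h4] at h3
  exact ConcreteCategory.congr_hom h3 c

theorem exists_C_of_mem_zero {a : MvPolynomial (Fin (n + 1)) R} (ha : a ∈ CohB1.polyGrading n R 0) :
    ∃ c : R, algebraMap R (CohB1.polyGrading n R 0) c = ⟨a, ha⟩ := by
  obtain ⟨c, hc⟩ := UPLib.exists_eq_algebraMap (𝒮 := CohB1.polyGrading n R) (ι := UPLib.linForm n)
    (UPLib.linForm_mem n) (UPLib.isSymmetricAlgebra_linForm n) ha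
  exact ⟨c, Subtype.ext hc⟩

/-- A homomorphism on the chart ring is determined by constants and coordinates. -/
theorem away_hom_ext {C : Type u} [CommRing C] {h h' : Away (CohB1.polyGrading n R) (MvPolynomial.X j) →+* C}
    (e0 : ∀ c : R, h (awayConst n R j c) = h' (awayConst n R j c))
    (e1 : ∀ i, h (coordFrac n R j i) = h' (coordFrac n R j i)) : h = h' := by
  refine UPLib.away_ext (UPLib.adjoin_one_eq_top (UPLib.linForm_mem (R := R) n)
    (UPLib.isSymmetricAlgebra_linForm n)) (MvPolynomial.isHomogeneous_X R j) ?_ ?_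
  · intro a ha
    rw [UPLib.away_mk_zero]
    obtain ⟨c, hc⟩ := exists_C_of_mem_zero n R (a := a) (by simpa using ha)
    rw [← hc]
    exact e0 c
  · intro a ha
    obtain ⟨m, hm⟩ := UPLib.exists_eq_ι (𝒮 := CohB1.polyGrading n R) (ι := UPLib.linForm n)
      (UPLib.linForm_mem n) (UPLib.isSymmetricAlgebra_linForm n) (a := a) (by simpa using ha)
    have e : Away.mk _ (MvPolynomial.isHomogeneous_X R j) 1 a ha =
        ∑ i, awayConst n R j (m i) * coordFrac n R j i := by
      refine HomogeneousLocalization.val_injective _ ?_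
      rw [Away.val_mk, ← HomogeneousLocalization.algebraMap_apply, map_sum]
      have hsum : a = ∑ i, MvPolynomial.C (m i) * MvPolynomial.X i := by
        rw [← hm, UPLib.linForm, Module.Basis.constr_apply_fintype]
        refine Finset.sum_congr rfl fun i _ => ?_
        rw [Pi.basisFun_equivFun, LinearEquiv.refl_apply, MvPolynomial.smul_eq_C_mul]
      simp only [map_mul, HomogeneousLocalization.algebraMap_apply, coordFrac, Away.val_mk, awayConst,
        RingHom.comp_apply, hsum, Localization.mk_eq_mk', IsLocalization.mk'_eq_iff_eq_mul, Finset.sum_mul]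
      refine (map_sum _ _ _).trans (Finset.sum_congr rfl fun i _ => ?_)
      rw [mul_assoc, IsLocalization.mk'_spec, map_mul]
      rfl
    rw [e, map_sum, map_sum]
    refine Finset.sum_congr rfl fun i _ => ?_
    rw [map_mul, map_mul, e0, e1]

end Proj

/-- The maximal ideal at a closed point of a chart is spanned by the shifted coordinates. -/
theorem exists_maximalIdeal_le_span {k : Type u} [Field k] [IsAlgClosed k] (n : ℕ) (j : Fin (n + 1))
    [LocallyOfFiniteType (CohB1.ProjSpace.toSpec n k)] {y : CohB1.ProjSpace n k}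
    (hy : IsClosed ({y} : Set (CohB1.ProjSpace n k))) (hyj : y ∈ chart n k j) :
    ∃ a : Fin (n + 1) → k,
      (∀ b : Γ(CohB1.ProjSpace n k, chart n k j), (CohB1.ProjSpace n k).presheaf.germ (chart n k j) y hyj b ∈
          IsLocalRing.maximalIdeal ((CohB1.ProjSpace n k).presheaf.stalk y) →
        b ∈ Ideal.span (Set.range fun i =>
          coordFun n k j i - gl (CohB1.ProjSpace.toSpec n k) (chart n k j) (a i))) ∧
      IsLocalRing.maximalIdeal ((CohB1.ProjSpace n k).presheaf.stalk y) ≤
      Ideal.span (Set.range fun i => (CohB1.ProjSpace n k).presheaf.germ (chart n k j) y hyj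
        (coordFun n k j i - gl (CohB1.ProjSpace.toSpec n k) (chart n k j) (a i))) ∧
      ∀ i, (CohB1.ProjSpace n k).presheaf.germ (chart n k j) y hyj
        (coordFun n k j i - gl (CohB1.ProjSpace.toSpec n k) (chart n k j) (a i)) ∈
          IsLocalRing.maximalIdeal ((CohB1.ProjSpace n k).presheaf.stalk y) := by
  let P := CohB1.ProjSpace n k
  let pP := CohB1.ProjSpace.toSpec n k
  have ha : ∀ i, ∃ a : k, P.presheaf.germ (chart n k j) y hyj (coordFun n k j i) -
      P.presheaf.germ ⊤ y trivial (ProjUP.toGlobal pP a) ∈ IsLocalRing.maximalIdeal (P.presheaf.stalk y) :=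
    fun i => exists_residue_eq pP hy _
  choose a ha using ha
  refine ⟨a, ?_⟩
  let A := Away (CohB1.polyGrading n k) (MvPolynomial.X j)
  let e : A →+* P.presheaf.stalk y := (P.presheaf.germ (chart n k j) y hyj).hom.comp
    (Proj.awayToSection (CohB1.polyGrading n k) (MvPolynomial.X j)).hom
  let κ : k →+* IsLocalRing.ResidueField (P.presheaf.stalk y) :=
    ((IsLocalRing.residue _).comp e).comp (awayConst n k j)
  have hκ : Function.Bijective κ := by
    refine ⟨κ.injective, fun t => ?_⟩
    obtain ⟨t, rfl⟩ := IsLocalRing.residue_surjective t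
    obtain ⟨c, hc⟩ := exists_residue_eq pP hy t
    refine ⟨c, (sub_eq_zero.1 ?_).symm⟩
    show IsLocalRing.residue _ t - IsLocalRing.residue _ (e (awayConst n k j c)) = 0
    rw [← map_sub, IsLocalRing.residue_eq_zero_iff]
    show t - P.presheaf.germ (chart n k j) y hyj _ ∈ _
    erw [awayToSection_const, germ_gl]
    exact hc
  let I : Ideal A := Ideal.span (Set.range fun i => coordFrac n k j i - awayConst n k j (a i))
  let h' : A →+* A ⧸ I := (((Ideal.Quotient.mk I).comp (awayConst n k j)).comp
    (RingEquiv.ofBijective κ hκ).symm.toRingHom).comp ((IsLocalRing.residue _).comp e)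
  have hh : h' = Ideal.Quotient.mk I := by
    have hs : ∀ c, (RingEquiv.ofBijective κ hκ).symm (IsLocalRing.residue _ (e (awayConst n k j c))) = c :=
      fun c => (RingEquiv.ofBijective κ hκ).symm_apply_apply c
    refine away_hom_ext n k j (fun c => ?_) (fun i => ?_)
    · show Ideal.Quotient.mk I (awayConst n k j _) = _
      exact congrArg (fun z => Ideal.Quotient.mk I (awayConst n k j z)) (hs c)
    · show Ideal.Quotient.mk I (awayConst n k j _) = _
      have h1 : IsLocalRing.residue _ (e (coordFrac n k j i)) =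
          IsLocalRing.residue _ (e (awayConst n k j (a i))) := by
        rw [← sub_eq_zero, ← map_sub, IsLocalRing.residue_eq_zero_iff]
        show P.presheaf.germ (chart n k j) y hyj _ - P.presheaf.germ (chart n k j) y hyj _ ∈ _
        erw [awayToSection_const, germ_gl]
        exact ha i
      refine (congrArg (fun z => Ideal.Quotient.mk I (awayConst n k j
        ((RingEquiv.ofBijective κ hκ).symm z))) h1).trans ?_
      refine (congrArg (fun z => Ideal.Quotient.mk I (awayConst n k j z)) (hs (a i))).trans ?_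
      refine (Ideal.Quotient.eq.2 ?_).symm
      exact Ideal.subset_span ⟨i, rfl⟩
  have : IsIso (Proj.awayToSection (CohB1.polyGrading n k) (MvPolynomial.X j)) := by
    rw [← Proj.basicOpenIsoAway_hom (CohB1.polyGrading n k) (MvPolynomial.X j)
      (MvPolynomial.isHomogeneous_X k j) one_pos]
    infer_instance
  have hring : ∀ s : Γ(P, chart n k j),
      P.presheaf.germ (chart n k j) y hyj s ∈ IsLocalRing.maximalIdeal (P.presheaf.stalk y) →
      s ∈ Ideal.span (Set.range fun i => coordFun n k j i - gl pP (chart n k j) (a i)) := by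
    intro s hs
    obtain ⟨b, rfl⟩ := (ConcreteCategory.bijective_of_isIso
      (Proj.awayToSection (CohB1.polyGrading n k) (MvPolynomial.X j))).2 s
    have hb : IsLocalRing.residue _ (e b) = 0 := (IsLocalRing.residue_eq_zero_iff _).2 hs
    have hbI : b ∈ I := by
      rw [← Ideal.Quotient.eq_zero_iff_mem, ← hh]
      show Ideal.Quotient.mk I
        (awayConst n k j ((RingEquiv.ofBijective κ hκ).symm (IsLocalRing.residue _ (e b)))) = 0
      rw [hb, map_zero, map_zero, map_zero]
    have h2 : I.map (Proj.awayToSection (CohB1.polyGrading n k) (MvPolynomial.X j)).hom ≤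
        Ideal.span (Set.range fun i => coordFun n k j i - gl pP (chart n k j) (a i)) := by
      rw [Ideal.map_span, Ideal.span_le]
      rintro _ ⟨_, ⟨i, rfl⟩, rfl⟩
      refine Ideal.subset_span ⟨i, ?_⟩
      dsimp only
      rw [map_sub, ← awayToSection_const]
      rfl
    exact h2 (Ideal.mem_map_of_mem _ hbI)
  refine ⟨hring, ?_, fun i => by rw [map_sub, germ_gl]; exact ha i⟩
  intro t ht
  let hV := isAffineOpen_chart n k j
  let _ := TopCat.Presheaf.algebra_section_stalk P.presheaf (⟨y, hyj⟩ : chart n k j)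
  have : IsLocalization.AtPrime (P.presheaf.stalk y) (hV.primeIdealOf ⟨y, hyj⟩).asIdeal :=
    hV.isLocalization_stalk ⟨y, hyj⟩
  obtain ⟨s, u, rfl⟩ := IsLocalization.exists_mk'_eq (hV.primeIdealOf ⟨y, hyj⟩).asIdeal.primeCompl t
  rw [IsLocalization.mk'_mem_iff]
  have hs : algebraMap Γ(P, chart n k j) (P.presheaf.stalk y) s ∈
      IsLocalRing.maximalIdeal (P.presheaf.stalk y) := by
    rw [← IsLocalization.mk'_spec (P.presheaf.stalk y) s u]
    exact Ideal.mul_mem_right _ _ ht
  have h3 := Ideal.mem_map_of_mem (algebraMap Γ(P, chart n k j) (P.presheaf.stalk y)) (hring s hs)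
  rw [Ideal.map_span, ← Set.range_comp] at h3
  exact h3

end Groth.Agent.EmbLib24
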