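import Mathlib.RingTheory.Nakayama
import Mathlib.RingTheory.Finiteness.Ideal
import Mathlib.RingTheory.Jacobson.Ideal
import Mathlib.RingTheory.Noetherian.Basic
import Mathlib.RingTheory.Ideal.Quotient.Operations

/-!
# Surjectivity of a finite ring map from separation of points and tangent vectors
-/

set_option autoImplicit false

universe u v

namespace Groth.Agent.EmbLib24

variable {A : Type u} {B : Type v} [CommRing A] [CommRing B] [Algebra A B]

/-- An ideal contained in a unique maximal ideal, which it spans modulo the square, is that ideal. -/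
theorem le_of_unique_maximal [IsNoetherianRing B] (J n : Ideal B) [n.IsMaximal] (hJn : J ≤ n)
    (huniq : ∀ n' : Ideal B, n'.IsMaximal → J ≤ n' → n' = n) (h : n ≤ J ⊔ n ^ 2) : n ≤ J := by
  let q := Ideal.Quotient.mk J
  have hn' : n.map q = ⊥ := by
    refine Submodule.eq_bot_of_le_smul_of_le_jacobson_bot (n.map q) (n.map q) ?_ ?_ ?_
    · exact Ideal.FG.map (IsNoetherian.noetherian n) q
    · have h1 := Ideal.map_mono (f := q) h
      rw [Ideal.map_sup, Ideal.map_quotient_self, bot_sup_eq, pow_two, Ideal.map_mul] at h1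
      exact h1
    · rw [Ideal.jacobson]
      refine le_sInf fun N ⟨_, hN⟩ => ?_
      have : (N.comap q).IsMaximal := Ideal.comap_isMaximal_of_surjective q Ideal.Quotient.mk_surjective
      have hJ : J ≤ N.comap q := fun a ha => by
        show q a ∈ N
        rw [show q a = 0 from Ideal.Quotient.eq_zero_iff_mem.2 ha]
        exact zero_mem _
      rw [← huniq _ this hJ, Ideal.map_comap_of_surjective q Ideal.Quotient.mk_surjective]
  intro a ha
  have : q a ∈ n.map q := Ideal.mem_map_of_mem q ha
  rw [hn', Ideal.mem_bot] at this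
  exact Ideal.Quotient.eq_zero_iff_mem.1 this

/-- Injective on maximal ideals, trivial residue extensions and unramified: surjective. -/
theorem surjective_of_separates [IsNoetherianRing B] [Module.Finite A B]
    (hinj : ∀ n n' : Ideal B, n.IsMaximal → n'.IsMaximal →
      n.comap (algebraMap A B) = n'.comap (algebraMap A B) → n = n')
    (hres : ∀ n : Ideal B, n.IsMaximal → ∀ b : B, ∃ a : A, b - algebraMap A B a ∈ n)
    (htan : ∀ n : Ideal B, n.IsMaximal →
      n ≤ (n.comap (algebraMap A B)).map (algebraMap A B) ⊔ n ^ 2) :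
    Function.Surjective (algebraMap A B) := by
  by_contra hsurj
  let N : Submodule A B := LinearMap.range (Algebra.linearMap A B)
  have hN : Module.annihilator A (B ⧸ N) ≠ ⊤ := by
    intro hann
    refine hsurj fun b => ?_
    have h1 : (1 : A) • (Submodule.Quotient.mk b : B ⧸ N) = 0 :=
      Module.mem_annihilator.1 (hann ▸ Submodule.mem_top) _
    rw [one_smul, Submodule.Quotient.mk_eq_zero] at h1
    exact h1
  obtain ⟨m, hm, hle⟩ := Ideal.exists_le_maximal _ hN
  have key : ∀ b : B, ∃ a : A, b - algebraMap A B a ∈ m.map (algebraMap A B) := by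
    intro b
    by_cases hJ : m.map (algebraMap A B) = ⊤
    · exact ⟨0, hJ ▸ Submodule.mem_top⟩
    obtain ⟨n, hn, hJn⟩ := Ideal.exists_le_maximal _ hJ
    have hcomap : ∀ n' : Ideal B, n'.IsMaximal → m.map (algebraMap A B) ≤ n' →
        n'.comap (algebraMap A B) = m := fun n' hn' h =>
      (hm.eq_of_le (Ideal.comap_ne_top _ hn'.ne_top) (Ideal.map_le_iff_le_comap.1 h)).symm
    have hnJ : n ≤ m.map (algebraMap A B) := le_of_unique_maximal _ n hJn
      (fun n' hn' h => hinj n' n hn' hn ((hcomap n' hn' h).trans (hcomap n hn hJn).symm))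
      (by simpa only [hcomap n hn hJn] using htan n hn)
    obtain ⟨a, ha⟩ := hres n hn b
    exact ⟨a, hnJ ha⟩
  have htop : (⊤ : Submodule A (B ⧸ N)) ≤ m • ⊤ := by
    rintro z -
    obtain ⟨b, rfl⟩ := Submodule.Quotient.mk_surjective N z
    obtain ⟨a, ha⟩ := key b
    have ha' : b - algebraMap A B a ∈ (m • ⊤ : Submodule A B) := by
      rw [Ideal.smul_top_eq_map]; exact ha
    have h2 : N.mkQ (b - algebraMap A B a) ∈ m • (⊤ : Submodule A (B ⧸ N)) := by
      refine (Submodule.map_smul'' m ⊤ N.mkQ).le.trans (Submodule.smul_mono le_rfl le_top) ?_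
      exact ⟨_, ha', rfl⟩
    have h3 : N.mkQ (algebraMap A B a) = 0 := (Submodule.Quotient.mk_eq_zero N).2 ⟨a, rfl⟩
    rwa [map_sub, h3, sub_zero] at h2
  obtain ⟨r, hr1, hr0⟩ := Submodule.exists_sub_one_mem_and_smul_eq_zero_of_fg_of_le_smul m ⊤
    Module.Finite.fg_top htop
  have hrm : r ∈ m := hle (Module.mem_annihilator.2 fun z => hr0 z trivial)
  exact hm.ne_top ((Ideal.eq_top_iff_one m).2 (by simpa using sub_mem hrm hr1))

end Groth.Agent.EmbLib24
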