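import Mathlib.AlgebraicGeometry.ZariskisMainTheorem
import Groth.Agent.EmbLib24.Alg
import Groth.Agent.EmbLib24.Coord
import Groth.Agent.PnEmb.Criterion

/-!
# Separation of points and tangent vectors
-/

set_option autoImplicit false
set_option backward.isDefEq.respectTransparency.types false

universe u

open AlgebraicGeometry CategoryTheory TopologicalSpace Opposite
open Groth.Agent.Coherent Groth.Agent.PicLib Groth.Agent.AmpleLib

namespace Groth.Agent.EmbLib24

/-- A generator gives a basis of the stalk. -/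
theorem bijective_smul_germ {X : Scheme.{u}} {M : X.Modules} {U : X.Opens} {s : Γ(M, U)}
    (hs : IsGen M U s) {x : X} (hx : x ∈ U) :
    Function.Bijective (fun r : X.presheaf.stalk x => r • M.presheaf.germ U x hx s) := by
  have key : ∀ (W : X.Opens) (hW : W ≤ U) (hxW : x ∈ W) (r : Γ(X, W)),
      X.presheaf.germ W x hxW r • M.presheaf.germ U x hx s = M.presheaf.germ W x hxW (r • resM M hW s) := by
    intro W hW hxW r
    rw [Groth.Agent.QCohLoc.germ_smul']
    exact congrArg (_ • ·) (TopCat.Presheaf.germ_res_apply M.presheaf (homOfLE hW) x hxW s).symm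
  constructor
  · intro a b hab
    obtain ⟨W₁, hx₁, a, rfl⟩ := TopCat.Presheaf.germ_exist X.presheaf a
    obtain ⟨W₂, hx₂, b, rfl⟩ := TopCat.Presheaf.germ_exist X.presheaf b
    let W := W₁ ⊓ W₂ ⊓ U
    have hxW : x ∈ W := ⟨⟨hx₁, hx₂⟩, hx⟩
    have ha := TopCat.Presheaf.germ_res_apply X.presheaf
      (homOfLE (inf_le_left.trans inf_le_left : W ≤ W₁)) x hxW a
    have hb := TopCat.Presheaf.germ_res_apply X.presheaf
      (homOfLE (inf_le_left.trans inf_le_right : W ≤ W₂)) x hxW b
    dsimp only at hab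
    rw [← ha, ← hb, key W inf_le_right hxW, key W inf_le_right hxW] at hab
    obtain ⟨V, hxV, i, i', e⟩ := TopCat.Presheaf.germ_eq M.presheaf x hxW hxW _ _ hab
    change resM M i.le _ = resM M i'.le _ at e
    rw [resM_smul, resM_smul, resM_resM] at e
    rw [← ha, ← hb, ← TopCat.Presheaf.germ_res_apply X.presheaf i x hxV,
      ← TopCat.Presheaf.germ_res_apply X.presheaf i x hxV (X.presheaf.map _ b)]
    exact congrArg _ ((hs V (i.le.trans inf_le_right)).1 e)
  · intro z
    obtain ⟨W, hxW, z, rfl⟩ := TopCat.Presheaf.germ_exist M.presheaf z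
    obtain ⟨r, hr⟩ := (hs (W ⊓ U) inf_le_right).2 (resM M inf_le_left z)
    refine ⟨X.presheaf.germ (W ⊓ U) x ⟨hxW, hx⟩ r, ?_⟩
    dsimp only at hr ⊢
    rw [key (W ⊓ U) inf_le_right ⟨hxW, hx⟩ r, hr]
    exact TopCat.Presheaf.germ_res_apply M.presheaf (homOfLE inf_le_left) x ⟨hxW, hx⟩ z

/-- Transporting the tangent condition along a basis of a free module of rank one. -/
theorem le_span_iff_of_bijective {R S : Type*} [CommRing R] [AddCommGroup S] [Module R S] (e : S)
    (he : Function.Bijective (fun r : R => r • e)) (I : Ideal R) (A : Set R) (B : Set S)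
    (hB : B = (fun r : R => r • e) '' A) :
    I • (⊤ : Submodule R S) ≤ Submodule.span R B ⊔ I ^ 2 • (⊤ : Submodule R S) ↔ I ≤ Ideal.span A ⊔ I ^ 2 := by
  let φ := LinearMap.toSpanSingleton R S e
  have hφ : ∀ J : Ideal R, Submodule.map φ J = J • (⊤ : Submodule R S) := by
    intro J
    have h1 := Submodule.map_smul'' J (⊤ : Submodule R R) φ
    rw [Submodule.map_top, LinearMap.range_eq_top.2 he.2, smul_eq_mul, Ideal.mul_top] at h1
    exact h1
  have hA : Submodule.span R B = Submodule.map φ (Ideal.span A) := by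
    rw [Ideal.span, Submodule.map_span, hB]
    rfl
  rw [hA, ← hφ, ← hφ, ← Submodule.map_sup]
  exact Submodule.map_le_map_iff_of_injective he.1 _ _

theorem mem_smul_top_iff {R S : Type*} [CommRing R] [AddCommGroup S] [Module R S] (e : S)
    (he : Function.Bijective (fun r : R => r • e)) (I : Ideal R) (a : R) :
    a • e ∈ I • (⊤ : Submodule R S) ↔ a ∈ I := by
  let φ := LinearMap.toSpanSingleton R S e
  have h1 := Submodule.map_smul'' I (⊤ : Submodule R R) φ
  rw [Submodule.map_top, LinearMap.range_eq_top.2 he.2, smul_eq_mul, Ideal.mul_top] at h1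
  rw [← h1]
  constructor
  · rintro ⟨b, hb, hba⟩
    rwa [← he.1 (hba : b • e = a • e)]
  · exact fun ha => ⟨a, ha, rfl⟩

variable {k : Type u} [Field k] {X : Scheme.{u}} {pX : X ⟶ Spec (CommRingCat.of k)} {n : ℕ}
  (f : X ⟶ CohB1.ProjSpace n k)

/-- The pull-back of `O(1)`. -/
noncomputable abbrev pbO : X.Modules := (Scheme.Modules.pullback f).obj (Twist.twistProjSpace n k 1)

/-- The pulled back coordinate. -/
noncomputable def sig (i : Fin (n + 1)) : Γ(pbO f, ⊤) :=
  ProjUP.pullSec f (Twist.twistProjSpace n k 1) (ProjUP.coord n k i)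

/-- The function `ℓ_c / T_j` at a point of the chart. -/
noncomputable def lin (j : Fin (n + 1)) {y : CohB1.ProjSpace n k} (hy : y ∈ chart n k j)
    (c : Fin (n + 1) → k) : (CohB1.ProjSpace n k).presheaf.stalk y :=
  (CohB1.ProjSpace n k).presheaf.germ (chart n k j) y hy
    (∑ i, gl (CohB1.ProjSpace.toSpec n k) (chart n k j) (c i) * coordFun n k j i)

theorem preimage_chart (j : Fin (n + 1)) : f ⁻¹ᵁ chart n k j = glocus (pbO f) (sig f j) :=
  PnEmb.preimage_chartOpen f (Iso.refl _) (σ := sig f) (fun _ => rfl) j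

theorem appLE_coordFun_smul (j i : Fin (n + 1)) (W : X.Opens) (hW : W ≤ f ⁻¹ᵁ chart n k j) :
    f.appLE (chart n k j) W hW (coordFun n k j i) • resM (pbO f) (le_top : W ≤ ⊤) (sig f j) =
      resM (pbO f) le_top (sig f i) :=
  UPLib.appLE_smul_sec (𝒜 := CohB1.polyGrading n k) (MvPolynomial.isHomogeneous_X k j) f W hW
    (MvPolynomial.X i) (by simpa using MvPolynomial.isHomogeneous_X k i)

theorem germ_eq_lin (hf : f ≫ CohB1.ProjSpace.toSpec n k = pX) (j : Fin (n + 1)) {P : X}
    (hP : f P ∈ chart n k j) (c : Fin (n + 1) → k) :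
    (pbO f).presheaf.germ ⊤ P trivial (∑ i, ProjUP.toGlobal pX (c i) • sig f i) =
      f.stalkMap P (lin j hP c) • (pbO f).presheaf.germ ⊤ P trivial (sig f j) := by
  let W := f ⁻¹ᵁ chart n k j
  have h1 : resM (pbO f) (le_top : W ≤ ⊤) (∑ i, ProjUP.toGlobal pX (c i) • sig f i) =
      f.app (chart n k j) (∑ i, gl (CohB1.ProjSpace.toSpec n k) (chart n k j) (c i) * coordFun n k j i) •
        resM (pbO f) (le_top : W ≤ ⊤) (sig f j) := by
    rw [map_sum, map_sum, Finset.sum_smul]
    refine Finset.sum_congr rfl fun i _ => ?_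
    rw [resM_smul, map_mul, mul_smul, Scheme.Hom.app_eq_appLE, appLE_coordFun_smul f j i W le_rfl]
    refine congrArg (· • _) ?_
    exact (appLE_gl hf (V := chart n k j) (W := W) le_rfl (c i)).symm
  have h2 := congrArg ((pbO f).presheaf.germ W P hP) h1
  rw [Groth.Agent.QCohLoc.germ_smul'] at h2
  refine (TopCat.Presheaf.germ_res_apply (pbO f).presheaf (homOfLE (le_top : W ≤ ⊤)) P hP _).symm.trans
    (h2.trans ?_)
  rw [lin, Scheme.Hom.germ_stalkMap_apply]
  exact congrArg (_ • ·) (TopCat.Presheaf.germ_res_apply (pbO f).presheaf (homOfLE (le_top : W ≤ ⊤)) P hP _)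

theorem bijective_germ_sig (j : Fin (n + 1)) {P : X} (hP : f P ∈ chart n k j) :
    Function.Bijective (fun r : X.presheaf.stalk P => r • (pbO f).presheaf.germ ⊤ P trivial (sig f j)) := by
  have hmem : P ∈ glocus (pbO f) (sig f j) := (preimage_chart f j).le hP
  have h := bijective_smul_germ (isGen_glocus (sig f j)) hmem
  have e : (pbO f).presheaf.germ (glocus (pbO f) (sig f j)) P hmem (resM (pbO f) le_top (sig f j)) =
      (pbO f).presheaf.germ ⊤ P trivial (sig f j) :=
    TopCat.Presheaf.germ_res_apply (pbO f).presheaf (homOfLE le_top) P hmem _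
  rwa [e] at h

theorem mem_iff_lin (hf : f ≫ CohB1.ProjSpace.toSpec n k = pX) (j : Fin (n + 1)) {P : X}
    (hP : f P ∈ chart n k j) (c : Fin (n + 1) → k) :
    (pbO f).presheaf.germ ⊤ P trivial (∑ i, ProjUP.toGlobal pX (c i) • sig f i) ∈
        (IsLocalRing.maximalIdeal (X.presheaf.stalk P) •
          (⊤ : Submodule (X.presheaf.stalk P) ((pbO f).presheaf.stalk P))) ↔
      lin j hP c ∈ IsLocalRing.maximalIdeal ((CohB1.ProjSpace n k).presheaf.stalk (f P)) := by
  rw [germ_eq_lin f hf j hP c, mem_smul_top_iff _ (bijective_germ_sig f j hP)]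
  simp only [IsLocalRing.mem_maximalIdeal, mem_nonunits_iff, isUnit_map_iff]

theorem coordFun_self (j : Fin (n + 1)) : coordFun n k j j = 1 := by
  rw [coordFun, coordFrac]
  refine (congrArg _ ?_).trans (map_one _)
  refine HomogeneousLocalization.val_injective _ ?_
  rw [HomogeneousLocalization.Away.val_mk, HomogeneousLocalization.val_one]
  simp [Localization.mk_self]

theorem lin_shift (j : Fin (n + 1)) {y : CohB1.ProjSpace n k} (hy : y ∈ chart n k j) (i : Fin (n + 1)) (a : k) :
    lin j hy (Pi.single i 1 - a • Pi.single j 1) =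
      (CohB1.ProjSpace n k).presheaf.germ (chart n k j) y hy
        (coordFun n k j i - gl (CohB1.ProjSpace.toSpec n k) (chart n k j) a) := by
  classical
  rw [lin]
  refine congrArg _ ?_
  simp only [Pi.sub_apply, Pi.smul_apply, map_sub, sub_mul, Finset.sum_sub_distrib]
  rw [Finset.sum_eq_single i (fun b _ hb => by rw [Pi.single_eq_of_ne hb, map_zero, zero_mul])
      (fun h => absurd (Finset.mem_univ i) h),
    Finset.sum_eq_single j (fun b _ hb => by rw [Pi.single_eq_of_ne hb, smul_zero, map_zero, zero_mul])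
      (fun h => absurd (Finset.mem_univ j) h),
    Pi.single_eq_same, Pi.single_eq_same, map_one, one_mul, coordFun_self, smul_eq_mul, mul_one, mul_one]

theorem exists_chart_mem (y : CohB1.ProjSpace n k) : ∃ j, y ∈ chart n k j := by
  by_contra! h
  obtain ⟨g, hg, hgy⟩ := UPLib.exists_degOne (UPLib.adjoin_one_eq_top (UPLib.linForm_mem (R := k) n)
    (UPLib.isSymmetricAlgebra_linForm n)) y
  obtain ⟨m, rfl⟩ := UPLib.exists_eq_ι (𝒮 := CohB1.polyGrading n k) (ι := UPLib.linForm n)
    (UPLib.linForm_mem n) (UPLib.isSymmetricAlgebra_linForm n) hg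
  refine hgy ?_
  rw [UPLib.linForm, Module.Basis.constr_apply_fintype]
  refine sum_mem fun i _ => ?_
  rw [MvPolynomial.smul_eq_C_mul]
  exact Ideal.mul_mem_left _ _ (not_not.1 (h i))

variable [IsAlgClosed k]

theorem separates_of_isClosedImmersion [LocallyOfFiniteType (CohB1.ProjSpace.toSpec n k)]
    (hf : f ≫ CohB1.ProjSpace.toSpec n k = pX) [IsClosedImmersion f] {P Q : X}
    (hP : IsClosed ({P} : Set X)) (hQ : IsClosed ({Q} : Set X)) (hne : P ≠ Q) :
    ∃ c : Fin (n + 1) → k,
      (pbO f).presheaf.germ ⊤ P trivial (∑ i, ProjUP.toGlobal pX (c i) • sig f i) ∈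
        (IsLocalRing.maximalIdeal (X.presheaf.stalk P) •
          (⊤ : Submodule (X.presheaf.stalk P) ((pbO f).presheaf.stalk P))) ∧
      (pbO f).presheaf.germ ⊤ Q trivial (∑ i, ProjUP.toGlobal pX (c i) • sig f i) ∉
        (IsLocalRing.maximalIdeal (X.presheaf.stalk Q) •
          (⊤ : Submodule (X.presheaf.stalk Q) ((pbO f).presheaf.stalk Q))) := by
  classical
  have hcP : IsClosed ({f P} : Set (CohB1.ProjSpace n k)) := by
    simpa using f.isClosedEmbedding.isClosedMap _ hP
  have hneY : f P ≠ f Q := fun h => hne (f.isClosedEmbedding.injective h)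
  obtain ⟨j, hj⟩ := exists_chart_mem (f Q)
  by_cases hPj : f P ∈ chart n k j
  · obtain ⟨a, hring, -, hain⟩ := exists_maximalIdeal_le_span n j hcP hPj
    by_contra hcon
    push Not at hcon
    have hall : ∀ i, (CohB1.ProjSpace n k).presheaf.germ (chart n k j) (f Q) hj
        (coordFun n k j i - gl (CohB1.ProjSpace.toSpec n k) (chart n k j) (a i)) ∈
          IsLocalRing.maximalIdeal ((CohB1.ProjSpace n k).presheaf.stalk (f Q)) := by
      intro i
      have h := hcon (Pi.single i 1 - a i • Pi.single j 1)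
        ((mem_iff_lin f hf j hPj _).2 (by rw [lin_shift]; exact hain i))
      rw [mem_iff_lin f hf j hj, lin_shift] at h
      exact h
    have hV := isAffineOpen_chart n k j
    have hle : hV.primeIdealOf ⟨f P, hPj⟩ ≤ hV.primeIdealOf ⟨f Q, hj⟩ := by
      intro b hb
      let _ := TopCat.Presheaf.algebra_section_stalk (CohB1.ProjSpace n k).presheaf (⟨f P, hPj⟩ : chart n k j)
      have := hV.isLocalization_stalk ⟨f P, hPj⟩
      have hbm : (CohB1.ProjSpace n k).presheaf.germ (chart n k j) (f P) hPj b ∈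
          IsLocalRing.maximalIdeal ((CohB1.ProjSpace n k).presheaf.stalk (f P)) :=
        (IsLocalization.AtPrime.to_map_mem_maximal_iff _ _ b).2 hb
      have hb2 := hring b hbm
      let _ := TopCat.Presheaf.algebra_section_stalk (CohB1.ProjSpace n k).presheaf (⟨f Q, hj⟩ : chart n k j)
      have := hV.isLocalization_stalk ⟨f Q, hj⟩
      refine (Ideal.span_le.2 ?_) hb2
      rintro _ ⟨i, rfl⟩
      exact (IsLocalization.AtPrime.to_map_mem_maximal_iff
        ((CohB1.ProjSpace n k).presheaf.stalk (f Q)) _ _).1 (hall i)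
    have hspec : f P ⤳ f Q := by
      have := ((PrimeSpectrum.le_iff_specializes _ _).1 hle).map hV.fromSpec.continuous
      rwa [hV.fromSpec_primeIdealOf, hV.fromSpec_primeIdealOf] at this
    exact hneY (hcP.closure_eq.le (specializes_iff_mem_closure.1 hspec)).symm
  · refine ⟨Pi.single j 1, ?_, ?_⟩
    · obtain ⟨j', hj'⟩ := exists_chart_mem (f P)
      rw [mem_iff_lin f hf j' hj', IsLocalRing.mem_maximalIdeal, mem_nonunits_iff]
      intro hu
      refine hPj ((preimage_chart f j).ge ?_)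
      have hl : lin j' hj' (Pi.single j (1 : k)) =
          (CohB1.ProjSpace n k).presheaf.germ (chart n k j') (f P) hj' (coordFun n k j' j) := by
        rw [lin]
        simp [Pi.single_apply, apply_ite, ite_mul, Finset.sum_ite_eq']
      rw [hl] at hu
      have hg := isGen_glocus (L := pbO f) (sig f j')
      rw [← preimage_chart f j'] at *
      have hPW : P ∈ glocus (pbO f) (sig f j) ⊓ glocus (pbO f) (sig f j') := by
        rw [glocus_inf _ (isGen_glocus (sig f j'))]
        have hmem : P ∈ glocus (pbO f) (sig f j') := (preimage_chart f j').le hj'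
        rw [Scheme.mem_basicOpen _ _ _ hmem]
        have e := (isGen_glocus (sig f j')).coef_eq le_rfl
          (r := f.appLE (chart n k j') _ (preimage_chart f j').ge (coordFun n k j' j))
          (x := resM (pbO f) le_top (sig f j)) (by
            rw [resM_self]
            exact appLE_coordFun_smul f j' j _ _)
        rw [e]
        have h3 := hu.map (f.stalkMap P).hom
        rw [Scheme.Hom.germ_stalkMap_apply] at h3
        rw [Scheme.Hom.appLE, CommRingCat.comp_apply, TopCat.Presheaf.germ_res_apply]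
        exact h3
      exact hPW.1
    · rw [mem_iff_lin f hf j hj, IsLocalRing.mem_maximalIdeal, mem_nonunits_iff, not_not]
      have hl : lin j hj (Pi.single j (1 : k)) = 1 := by
        rw [lin]
        simp [Pi.single_apply, apply_ite, ite_mul, Finset.sum_ite_eq', coordFun_self]
      rw [hl]
      exact isUnit_one

theorem tangents_of_isClosedImmersion [LocallyOfFiniteType (CohB1.ProjSpace.toSpec n k)]
    (hf : f ≫ CohB1.ProjSpace.toSpec n k = pX) [IsClosedImmersion f] {P : X}
    (hP : IsClosed ({P} : Set X)) :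
    (IsLocalRing.maximalIdeal (X.presheaf.stalk P) •
        (⊤ : Submodule (X.presheaf.stalk P) ((pbO f).presheaf.stalk P))) ≤
      Submodule.span (X.presheaf.stalk P)
        {v | ∃ c : Fin (n + 1) → k,
          v = (pbO f).presheaf.germ ⊤ P trivial (∑ i, ProjUP.toGlobal pX (c i) • sig f i) ∧
          v ∈ (IsLocalRing.maximalIdeal (X.presheaf.stalk P) •
            (⊤ : Submodule (X.presheaf.stalk P) ((pbO f).presheaf.stalk P)))} ⊔
      (IsLocalRing.maximalIdeal (X.presheaf.stalk P) ^ 2 •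
        (⊤ : Submodule (X.presheaf.stalk P) ((pbO f).presheaf.stalk P))) := by
  classical
  have hcP : IsClosed ({f P} : Set (CohB1.ProjSpace n k)) := by
    simpa using f.isClosedEmbedding.isClosedMap _ hP
  obtain ⟨j, hj⟩ := exists_chart_mem (f P)
  obtain ⟨a, -, hspan, hain⟩ := exists_maximalIdeal_le_span n j hcP hj
  refine (le_span_iff_of_bijective _ (bijective_germ_sig f j hj) _
    ((f.stalkMap P) '' {z | ∃ c, z = lin j hj c ∧
      z ∈ IsLocalRing.maximalIdeal ((CohB1.ProjSpace n k).presheaf.stalk (f P))}) _ ?_).2 ?_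
  · ext v
    constructor
    · rintro ⟨c, rfl, hv⟩
      exact ⟨_, ⟨_, ⟨c, rfl, (mem_iff_lin f hf j hj c).1 hv⟩, rfl⟩, (germ_eq_lin f hf j hj c).symm⟩
    · rintro ⟨_, ⟨_, ⟨c, rfl, hc⟩, rfl⟩, rfl⟩
      exact ⟨c, (germ_eq_lin f hf j hj c).symm,
        by rw [show (fun r => r • _) _ = _ from (germ_eq_lin f hf j hj c).symm]; exact (mem_iff_lin f hf j hj c).2 hc⟩
  · refine le_sup_of_le_left fun b hb => ?_
    obtain ⟨b, rfl⟩ := f.stalkMap_surjective P b
    have hb' : b ∈ IsLocalRing.maximalIdeal ((CohB1.ProjSpace n k).presheaf.stalk (f P)) := by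
      simpa only [IsLocalRing.mem_maximalIdeal, mem_nonunits_iff, isUnit_map_iff] using hb
    have hb2 := Ideal.mem_map_of_mem (f.stalkMap P).hom (hspan hb')
    rw [Ideal.map_span] at hb2
    refine Ideal.span_mono ?_ hb2
    rintro _ ⟨_, ⟨i, rfl⟩, rfl⟩
    exact ⟨_, ⟨Pi.single i 1 - a i • Pi.single j 1, (lin_shift j hj i (a i)).symm, hain i⟩, rfl⟩

theorem isClosedImmersion_of_separates [LocallyOfFiniteType (CohB1.ProjSpace.toSpec n k)] [LocallyOfFiniteType pX]
    (hf : f ≫ CohB1.ProjSpace.toSpec n k = pX) [IsProper f]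
    (hsep : ∀ P Q : X, IsClosed ({P} : Set X) → IsClosed ({Q} : Set X) → P ≠ Q →
      ∃ c : Fin (n + 1) → k,
        ((pbO f).presheaf.germ ⊤ P trivial (∑ i, ProjUP.toGlobal pX (c i) • sig f i) ∈
          (IsLocalRing.maximalIdeal (X.presheaf.stalk P) •
            (⊤ : Submodule (X.presheaf.stalk P) ((pbO f).presheaf.stalk P))) ∧
        (pbO f).presheaf.germ ⊤ Q trivial (∑ i, ProjUP.toGlobal pX (c i) • sig f i) ∉
          (IsLocalRing.maximalIdeal (X.presheaf.stalk Q) •
            (⊤ : Submodule (X.presheaf.stalk Q) ((pbO f).presheaf.stalk Q)))) ∨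
        ((pbO f).presheaf.germ ⊤ Q trivial (∑ i, ProjUP.toGlobal pX (c i) • sig f i) ∈
          (IsLocalRing.maximalIdeal (X.presheaf.stalk Q) •
            (⊤ : Submodule (X.presheaf.stalk Q) ((pbO f).presheaf.stalk Q))) ∧
        (pbO f).presheaf.germ ⊤ P trivial (∑ i, ProjUP.toGlobal pX (c i) • sig f i) ∉
          (IsLocalRing.maximalIdeal (X.presheaf.stalk P) •
            (⊤ : Submodule (X.presheaf.stalk P) ((pbO f).presheaf.stalk P)))))
    (htan : ∀ P : X, IsClosed ({P} : Set X) →
      (IsLocalRing.maximalIdeal (X.presheaf.stalk P) •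
          (⊤ : Submodule (X.presheaf.stalk P) ((pbO f).presheaf.stalk P))) ≤
        Submodule.span (X.presheaf.stalk P)
          {v | ∃ c : Fin (n + 1) → k,
            v = (pbO f).presheaf.germ ⊤ P trivial (∑ i, ProjUP.toGlobal pX (c i) • sig f i) ∧
            v ∈ (IsLocalRing.maximalIdeal (X.presheaf.stalk P) •
              (⊤ : Submodule (X.presheaf.stalk P) ((pbO f).presheaf.stalk P)))} ⊔
        (IsLocalRing.maximalIdeal (X.presheaf.stalk P) ^ 2 •
          (⊤ : Submodule (X.presheaf.stalk P) ((pbO f).presheaf.stalk P)))) :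
    IsClosedImmersion f := by
  classical
  have : JacobsonSpace X := LocallyOfFiniteType.jacobsonSpace pX
  have : IsLocallyNoetherian X := LocallyOfFiniteType.isLocallyNoetherian pX
  have hinj : ∀ P Q : X, IsClosed ({P} : Set X) → IsClosed ({Q} : Set X) → f P = f Q → P = Q := by
    intro P Q hP hQ h
    by_contra hne
    have key : ∀ (P Q : X), f P = f Q → ∀ c : Fin (n + 1) → k,
        (pbO f).presheaf.germ ⊤ P trivial (∑ i, ProjUP.toGlobal pX (c i) • sig f i) ∈
          (IsLocalRing.maximalIdeal (X.presheaf.stalk P) •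
            (⊤ : Submodule (X.presheaf.stalk P) ((pbO f).presheaf.stalk P))) →
        (pbO f).presheaf.germ ⊤ Q trivial (∑ i, ProjUP.toGlobal pX (c i) • sig f i) ∈
          (IsLocalRing.maximalIdeal (X.presheaf.stalk Q) •
            (⊤ : Submodule (X.presheaf.stalk Q) ((pbO f).presheaf.stalk Q))) := by
      intro P Q h c h1
      obtain ⟨j, hj⟩ := exists_chart_mem (f P)
      rw [mem_iff_lin f hf j hj] at h1
      rw [mem_iff_lin f hf j (h ▸ hj)]
      have key : ∀ (y : CohB1.ProjSpace n k) (e : f P = y) (hy : y ∈ chart n k j),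
          lin j hy c ∈ IsLocalRing.maximalIdeal ((CohB1.ProjSpace n k).presheaf.stalk y) := by
        rintro y rfl hy
        exact h1
      exact key _ h _
    obtain ⟨c, ⟨h1, h2⟩ | ⟨h1, h2⟩⟩ := hsep P Q hP hQ hne
    exacts [h2 (key P Q h c h1), h2 (key Q P h.symm c h1)]
  have : LocallyQuasiFinite f := by
    rw [← Scheme.Hom.quasiFiniteLocus_eq_top_iff, eq_top_iff]
    rintro x -
    by_contra hx
    obtain ⟨P, hP, hPc⟩ := nonempty_inter_closedPoints (Z := (f.quasiFiniteLocus : Set X)ᶜ) ⟨x, hx⟩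
      f.quasiFiniteLocus.isOpen.isClosed_compl.isLocallyClosed
    refine hP (Scheme.Hom.quasiFiniteAt_iff_isOpen_singleton_asFiber.2 ?_)
    have hfib : f ⁻¹' {f P} = {P} := by
      refine Set.eq_singleton_iff_unique_mem.2 ⟨rfl, fun z hz => ?_⟩
      have hclP : IsClosed ({f P} : Set (CohB1.ProjSpace n k)) := by
        simpa using f.isClosedMap _ hPc
      have hsub : f ⁻¹' {f P} ∩ closedPoints X ⊆ {P} := fun w hw => (hinj P w hPc hw.2 hw.1.symm).symm
      have h1 := JacobsonSpace.closure_inter_closedPoints_eq_closure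
        (hclP.preimage f.continuous).isLocallyClosed
      have h2 : z ∈ closure ({P} : Set X) := closure_mono hsub (h1.ge (subset_closure hz))
      rwa [hPc.closure_eq] at h2
    have : ({f.asFiber P} : Set (f.fiber (f P))) = Set.univ := by
      refine Set.eq_univ_of_forall fun z => Set.mem_singleton_iff.2 ((f.fiberHomeo (f P)).injective ?_)
      rw [Scheme.Hom.asFiber, Homeomorph.apply_symm_apply]
      refine Subtype.ext ?_
      have h := (f.fiberHomeo (f P) z).2
      exact Set.mem_singleton_iff.1 (hfib.le h)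
    rw [this]
    exact isOpen_univ
  have : IsFinite f := IsFinite.of_isProper_of_locallyQuasiFinite f
  have hsur : ∀ j, Function.Surjective (f.app (chart n k j)) := by
    intro j
    let V := chart n k j
    have hV := isAffineOpen_chart n k j
    have hW : IsAffineOpen (f ⁻¹ᵁ V) := hV.preimage f
    let _ := (f.app V).hom.toAlgebra
    have : Module.Finite Γ(CohB1.ProjSpace n k, V) Γ(X, f ⁻¹ᵁ V) := f.finite_app _ hV
    have : IsNoetherianRing Γ(X, f ⁻¹ᵁ V) := IsLocallyNoetherian.component_noetherian ⟨_, hW⟩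
    have hpt : ∀ m : Ideal Γ(X, f ⁻¹ᵁ V), m.IsMaximal → ∃ (P : X) (hP : P ∈ f ⁻¹ᵁ V),
        IsClosed ({P} : Set X) ∧ (hW.primeIdealOf ⟨P, hP⟩).asIdeal = m ∧
        m.comap (algebraMap Γ(CohB1.ProjSpace n k, V) Γ(X, f ⁻¹ᵁ V)) =
          (hV.primeIdealOf ⟨f P, hP⟩).asIdeal := by
      intro m hm
      let p : PrimeSpectrum Γ(X, f ⁻¹ᵁ V) := ⟨m, hm.isPrime⟩
      have hP : hW.fromSpec p ∈ f ⁻¹ᵁ V := hW.range_fromSpec.le ⟨p, rfl⟩
      have e : hW.primeIdealOf ⟨hW.fromSpec p, hP⟩ = p :=
        hW.fromSpec.isOpenEmbedding.injective (hW.fromSpec_primeIdealOf ⟨_, hP⟩)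
      refine ⟨hW.fromSpec p, hP, ?_, congrArg PrimeSpectrum.asIdeal e, ?_⟩
      · have hp : p ∈ closedPoints (PrimeSpectrum Γ(X, f ⁻¹ᵁ V)) :=
          (PrimeSpectrum.isClosed_singleton_iff_isMaximal p).2 hm
        exact (Set.ext_iff.1 hW.fromSpec.isOpenEmbedding.preimage_closedPoints p).2 hp
      · have h := IsAffineOpen.comap_primeIdealOf_appLE (f := f) V hV (f ⁻¹ᵁ V) hW le_rfl hP
        rw [e] at h
        rw [← congrArg PrimeSpectrum.asIdeal h, ← Scheme.Hom.app_eq_appLE]
        rfl
    refine surjective_of_separates ?_ ?_ ?_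
    · intro m m' hm hm' h
      obtain ⟨P, hP, hPc, rfl, eP⟩ := hpt m hm
      obtain ⟨Q, hQ, hQc, rfl, eQ⟩ := hpt m' hm'
      have h1 : hV.primeIdealOf ⟨f P, hP⟩ = hV.primeIdealOf ⟨f Q, hQ⟩ :=
        PrimeSpectrum.ext (eP.symm.trans (h.trans eQ))
      have h2 := congrArg hV.fromSpec h1
      rw [hV.fromSpec_primeIdealOf, hV.fromSpec_primeIdealOf] at h2
      obtain rfl := hinj P Q hPc hQc h2
      rfl
    · intro m hm b
      obtain ⟨P, hP, hPc, rfl, -⟩ := hpt m hm
      obtain ⟨c, hc⟩ := exists_residue_eq pX hPc (X.presheaf.germ (f ⁻¹ᵁ V) P hP b)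
      refine ⟨gl (CohB1.ProjSpace.toSpec n k) V c, ?_⟩
      let _ := TopCat.Presheaf.algebra_section_stalk X.presheaf (⟨P, hP⟩ : ↑(f ⁻¹ᵁ V))
      have := hW.isLocalization_stalk ⟨P, hP⟩
      refine (IsLocalization.AtPrime.to_map_mem_maximal_iff (X.presheaf.stalk P) _ _).1 ?_
      show X.presheaf.germ (f ⁻¹ᵁ V) P hP (b - f.app V _) ∈ _
      rw [map_sub, Scheme.Hom.app_eq_appLE, appLE_gl hf, germ_gl]
      exact hc
    · intro m hm b hb
      obtain ⟨P, hP, hPc, rfl, eP⟩ := hpt m hm
      rw [eP]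
      set q := (hV.primeIdealOf ⟨f P, hP⟩).asIdeal
      set m₀ := (hW.primeIdealOf ⟨P, hP⟩).asIdeal with hm₀
      let _ := TopCat.Presheaf.algebra_section_stalk X.presheaf (⟨P, hP⟩ : ↑(f ⁻¹ᵁ V))
      have : IsLocalization.AtPrime (X.presheaf.stalk P) m₀ := hW.isLocalization_stalk ⟨P, hP⟩
      have hmm : m₀.map (algebraMap Γ(X, f ⁻¹ᵁ V) (X.presheaf.stalk P)) =
          IsLocalRing.maximalIdeal (X.presheaf.stalk P) :=
        IsLocalization.AtPrime.map_eq_maximalIdeal m₀ (X.presheaf.stalk P)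
      have h1 := (le_span_iff_of_bijective _ (bijective_germ_sig f j hP) _
        ((f.stalkMap P) '' {z | ∃ c, z = lin j hP c ∧
          z ∈ IsLocalRing.maximalIdeal ((CohB1.ProjSpace n k).presheaf.stalk (f P))}) _ (by
        ext v
        constructor
        · rintro ⟨c, rfl, hv⟩
          exact ⟨_, ⟨_, ⟨c, rfl, (mem_iff_lin f hf j hP c).1 hv⟩, rfl⟩, (germ_eq_lin f hf j hP c).symm⟩
        · rintro ⟨_, ⟨_, ⟨c, rfl, hc⟩, rfl⟩, rfl⟩
          exact ⟨c, (germ_eq_lin f hf j hP c).symm,
            by rw [show (fun r => r • _) _ = _ from (germ_eq_lin f hf j hP c).symm]; exact (mem_iff_lin f hf j hP c).2 hc⟩)).1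
        (htan P hPc)
      have h2 : IsLocalRing.maximalIdeal (X.presheaf.stalk P) ≤
          (q.map (algebraMap Γ(CohB1.ProjSpace n k, V) Γ(X, f ⁻¹ᵁ V)) ⊔ m₀ ^ 2).map
            (algebraMap Γ(X, f ⁻¹ᵁ V) (X.presheaf.stalk P)) := by
        refine h1.trans ?_
        rw [Ideal.map_sup, Ideal.map_pow, hmm]
        refine sup_le_sup_right (Ideal.span_le.2 ?_) _
        rintro _ ⟨_, ⟨c, rfl, hc⟩, rfl⟩
        rw [lin, Scheme.Hom.germ_stalkMap_apply]
        refine Ideal.mem_map_of_mem (algebraMap Γ(X, f ⁻¹ᵁ V) (X.presheaf.stalk P)) ?_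
        refine Ideal.mem_map_of_mem (algebraMap Γ(CohB1.ProjSpace n k, V) Γ(X, f ⁻¹ᵁ V)) ?_
        let _ := TopCat.Presheaf.algebra_section_stalk (CohB1.ProjSpace n k).presheaf (⟨f P, hP⟩ : V)
        have := hV.isLocalization_stalk ⟨f P, hP⟩
        exact (IsLocalization.AtPrime.to_map_mem_maximal_iff
          ((CohB1.ProjSpace n k).presheaf.stalk (f P)) q _).1 hc
      have hb' := h2 (hmm ▸ Ideal.mem_map_of_mem _ hb)
      rw [IsLocalization.algebraMap_mem_map_algebraMap_iff m₀.primeCompl] at hb'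
      obtain ⟨s, hs, hsb⟩ := hb'
      obtain ⟨y, i, hi, hy⟩ := hm.exists_inv hs
      have : b = y * (s * b) + i * b := by rw [← mul_assoc, ← add_mul, hy, one_mul]
      rw [this]
      exact add_mem (Ideal.mul_mem_left _ _ hsb)
        (Ideal.mem_sup_right (by rw [pow_two]; exact Ideal.mul_mem_mul hi hb))
  have himm : IsImmersion f := PnEmb.isImmersion_of_charts f (fun j => chart n k j) (isAffineOpen_chart n k)
    (fun j => (isAffineOpen_chart n k j).preimage f) hsur fun x => exists_chart_mem (f x)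
  exact IsClosedImmersion.of_isPreimmersion f f.isClosedMap.isClosed_range

end Groth.Agent.EmbLib24
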